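import Mathlib

/-!
The generating function `∏ (1 - t^i)/(1 - q t^i)` of the class numbers of `GL_n(q)`:
its coefficients are at most `q^n - 1`, and at most `q^n - q` for `n ≥ 3`.
-/

set_option autoImplicit false

namespace H64.CN

open PowerSeries Finset

/-- The number of monic polynomials of degree `j` with non-zero constant term. -/
def fq (q : ℕ) : ℕ → ℕ
  | 0 => 1
  | j + 1 => (q - 1) * q ^ j

/-- The generating function of `fq`. -/
noncomputable def Pq (q : ℕ) : ℤ⟦X⟧⟦X⟧ := PowerSeries.mk fun j => C (fq q j : ℤ)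

/-- The weights of partitions with `k` parts less than `N`. -/
noncomputable def aq (q N k : ℕ) : ℤ⟦X⟧ := coeff k (∏ i ∈ range N, rescale (X ^ i) (Pq q))

lemma aq_eq (q N k : ℕ) : aq q N k = ∑ ν ∈ finsuppAntidiag (range N) k,
    X ^ (∑ i ∈ range N, i * ν i) * C ((∏ i ∈ range N, fq q (ν i) : ℕ) : ℤ) := by
  rw [aq, PowerSeries.coeff_prod]
  refine sum_congr rfl fun ν _ => ?_
  simp only [coeff_rescale, Pq, coeff_mk, prod_mul_distrib, ← pow_mul, prod_pow_eq_pow_sum,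
    Nat.cast_prod, map_prod]

lemma aq_zero (q N : ℕ) : aq q N 0 = 1 := by
  simp [aq_eq, fq]

lemma Pq_mul {q : ℕ} (hq : 1 ≤ q) : (1 - C (q : ℤ⟦X⟧) * X) * Pq q = 1 - X := by
  ext1 j
  rw [sub_mul, one_mul, mul_assoc, map_sub, coeff_C_mul]
  rcases j with _ | _ | j
  · simp [Pq, fq]
  · simp [Pq, fq, coeff_succ_X_mul, coeff_one, hq]
  · simp [Pq, fq, coeff_succ_X_mul, coeff_one, coeff_X, hq]
    ring

lemma aq_rec {q : ℕ} (hq : 1 ≤ q) (N k : ℕ) :
    X ^ N ∣ aq q N (k + 1) * (1 - X ^ (k + 1)) - ((q : ℤ⟦X⟧) - X ^ k) * aq q N k := by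
  set Fz := ∏ i ∈ range N, rescale (X ^ i) (Pq q) with hF
  have h1 : Pq q * rescale X Fz = Fz * rescale (X ^ N) (Pq q) := by
    rw [hF, ← prod_range_succ, prod_range_succ', map_prod, mul_comm]
    simp [rescale_rescale, pow_succ]
  have h2 : (1 - X) * rescale X Fz = (1 - C (q : ℤ⟦X⟧) * X) * Fz * rescale (X ^ N) (Pq q) := by
    rw [← Pq_mul hq, mul_assoc, h1, mul_assoc]
  obtain ⟨D, hD⟩ : ∃ D, rescale (X ^ N) (Pq q) = 1 + C (X ^ N) * D := by
    refine ⟨PowerSeries.mk fun j => if j = 0 then 0 else (X ^ N) ^ (j - 1) * C (fq q j : ℤ), ?_⟩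
    ext1 j
    rcases j with _ | j
    · simp [Pq, fq]
    · rw [map_add, coeff_C_mul]
      simp [Pq, coeff_one, pow_succ]
      ring
  have h3 := congrArg (coeff (k + 1)) h2
  rw [hD, mul_add, mul_one, mul_left_comm] at h3
  simp only [sub_mul, one_mul, mul_assoc, map_sub, map_add, coeff_C_mul, coeff_succ_X_mul,
    coeff_rescale] at h3
  refine ⟨-coeff (k + 1) ((1 - C (q : ℤ⟦X⟧) * X) * Fz * D), ?_⟩
  simp only [sub_mul, one_mul, mul_assoc, map_sub, coeff_C_mul, coeff_succ_X_mul]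
  unfold aq
  rw [← hF]
  linear_combination -h3

/-- Power series with non-negative coefficients. -/
def NN (φ : ℤ⟦X⟧) : Prop := ∀ m, 0 ≤ coeff m φ

lemma NN.mul {φ ψ : ℤ⟦X⟧} (h : NN φ) (h' : NN ψ) : NN (φ * ψ) := fun m => by
  rw [coeff_mul]; exact sum_nonneg fun _ _ => mul_nonneg (h _) (h' _)

lemma nn_X_pow (k : ℕ) : NN (X ^ k) := fun m => by rw [coeff_X_pow]; positivity

lemma nn_aq (q N k : ℕ) : NN (aq q N k) := fun m => by
  rw [aq_eq, map_sum]
  exact sum_nonneg fun ν _ => (nn_X_pow _).mul (fun m => by rw [coeff_C]; positivity) m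

/-- The inverse of `1 - X^k`. -/
noncomputable def Gk (k : ℕ) : ℤ⟦X⟧ := PowerSeries.mk fun m => if k ∣ m then 1 else 0

lemma nn_Gk (k : ℕ) : NN (Gk k) := fun m => by rw [Gk, coeff_mk]; positivity

lemma Gk_mul (k : ℕ) : Gk (k + 1) * (1 - X ^ (k + 1)) = 1 := by
  ext m
  rw [mul_sub, mul_one, map_sub, coeff_mul_X_pow', Gk, coeff_mk, coeff_mk, coeff_one]
  by_cases h : k + 1 ≤ m
  · simp [h, (Nat.dvd_sub_iff_left h dvd_rfl), show m ≠ 0 by omega]
  · by_cases h0 : m = 0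
    · simp [h0]
    · simp [h, h0, Nat.not_dvd_of_pos_of_lt (Nat.pos_of_ne_zero h0) (not_le.mp h)]

theorem coeff_bound {q : ℕ} (hq : 1 ≤ q) {n N : ℕ} (hN : n < N) :
    (1 ≤ n → coeff n (∑ k ∈ range N, X ^ k * aq q N k : ℤ⟦X⟧) + 1 ≤ (q : ℤ) ^ n) ∧
    (3 ≤ n → coeff n (∑ k ∈ range N, X ^ k * aq q N k : ℤ⟦X⟧) + q ≤ (q : ℤ) ^ n) := by
  let e : ℕ → ℤ⟦X⟧ := fun k => aq q N k * Gk (k + 1)
  have he : ∀ k, NN (e k) := fun k => (nn_aq q N k).mul (nn_Gk _)
  have h1 : ∀ k, aq q N k = e k * (1 - X ^ (k + 1)) := fun k => by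
    rw [mul_assoc, Gk_mul, mul_one]
  have h2 : ∀ k, X ^ N ∣ aq q N (k + 1) - ((q : ℤ⟦X⟧) - X ^ k) * e k := fun k => by
    have := (aq_rec hq N k).mul_right (Gk (k + 1))
    rwa [sub_mul, mul_assoc, mul_comm (1 - _), Gk_mul, mul_one, mul_assoc] at this
  set c := ∑ k ∈ range N, X ^ k * aq q N k with hc
  let E := ∑ k ∈ range N, X ^ k * e k
  let S := ∑ k ∈ range N, X ^ (2 * k + 1) * e k
  have h3 : c + S = E := by
    rw [hc, ← sum_add_distrib]
    exact sum_congr rfl fun k _ => by rw [h1]; ring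
  have h4 : X ^ N ∣ E - (1 + (q : ℤ⟦X⟧) * (X * E)) := by
    have a1 : c + X ^ N * aq q N N = ∑ k ∈ range N, X ^ (k + 1) * aq q N (k + 1) + 1 := by
      rw [hc, ← sum_range_succ (fun k => X ^ k * aq q N k), sum_range_succ', aq_zero]; simp
    have a2 : X ^ N ∣ ∑ k ∈ range N, X ^ (k + 1) * (aq q N (k + 1) - ((q : ℤ⟦X⟧) - X ^ k) * e k) :=
      dvd_sum fun k _ => (h2 k).mul_left _
    have a3 : ∑ k ∈ range N, X ^ (k + 1) * (aq q N (k + 1) - ((q : ℤ⟦X⟧) - X ^ k) * e k) =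
        ∑ k ∈ range N, X ^ (k + 1) * aq q N (k + 1) - (q : ℤ⟦X⟧) * (X * E) + S := by
      simp only [E, S, mul_sum, ← sum_sub_distrib, ← sum_add_distrib]
      exact sum_congr rfl fun k _ => by ring
    rw [a3] at a2
    have := a2.sub (dvd_mul_right (X ^ N) (aq q N N))
    convert this using 1
    linear_combination a1 - h3
  have h5 : ∀ m, m < N → coeff m E = q ^ m := by
    rw [X_pow_dvd_iff] at h4
    intro m
    induction m with
    | zero => intro h; simpa [sub_eq_zero] using h4 0 h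
    | succ m ih =>
      intro h
      have := h4 _ h
      rw [map_sub, map_add, ← map_natCast (C : ℤ →+* ℤ⟦X⟧), coeff_C_mul, coeff_succ_X_mul,
        ih (by omega), coeff_one, if_neg (by omega)] at this
      linear_combination this
  have h6 := congrArg (coeff n) h3
  rw [map_add, h5 n hN] at h6
  have s0 : ∀ m, coeff m (e 0) = 1 := fun m => by simp [e, aq_zero, Gk]
  have hS : ∀ T ⊆ range N, ∑ k ∈ T, coeff n (X ^ (2 * k + 1) * e k) ≤ coeff n S := fun T hT => by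
    rw [map_sum]
    exact sum_le_sum_of_subset_of_nonneg hT fun k _ _ => (nn_X_pow _).mul (he k) n
  constructor
  · intro h
    have := hS {0} (by simp; omega)
    rw [sum_singleton, coeff_X_pow_mul', if_pos (by omega), s0] at this
    omega
  · intro h
    have := hS {0, 1} (by intro k; simp; omega)
    rw [sum_pair (by simp), coeff_X_pow_mul', if_pos (by omega), s0, coeff_X_pow_mul',
      if_pos (by omega)] at this
    have b1 : coeff (n - (2 * 1 + 1)) (aq q N 1) ≤ coeff (n - (2 * 1 + 1)) (e 1) := by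
      rw [coeff_mul]
      have := single_le_sum (f := fun p : ℕ × ℕ => coeff p.1 (aq q N 1) * coeff p.2 (Gk (1 + 1)))
        (fun _ _ => mul_nonneg (nn_aq _ _ _ _) (nn_Gk _ _))
        (mem_antidiagonal.mpr (add_zero (n - (2 * 1 + 1))) : (n - (2 * 1 + 1), 0) ∈ _)
      simpa [Gk] using this
    have b2 := X_pow_dvd_iff.mp (h2 0) (n - (2 * 1 + 1)) (by omega)
    rw [map_sub, sub_mul, map_sub, pow_zero, one_mul, ← map_natCast (C : ℤ →+* ℤ⟦X⟧), coeff_C_mul,
      s0, zero_add] at b2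
    omega

/-- The weighted number of partitions of `n`. -/
def wsum (q n : ℕ) : ℕ := ∑ k ∈ range (n + 1), ∑ ν ∈ finsuppAntidiag (range (n + 1)) k with
  ∑ i ∈ range (n + 1), (i + 1) * ν i = n, ∏ i ∈ range (n + 1), fq q (ν i)

lemma wsum_eq (q n : ℕ) :
    (wsum q n : ℤ) = coeff n (∑ k ∈ range (n + 1), X ^ k * aq q (n + 1) k) := by
  simp only [wsum, aq_eq, mul_sum, map_sum, sum_filter, Nat.cast_sum]
  refine sum_congr rfl fun k _ => sum_congr rfl fun ν hν => ?_
  rw [← mul_assoc, ← pow_add, coeff_mul_C, coeff_X_pow, ← (mem_finsuppAntidiag.mp hν).1,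
    ← sum_add_distrib]
  simp only [add_mul, one_mul, add_comm, eq_comm]
  split_ifs <;> simp

theorem wsum_le {q : ℕ} (hq : 1 ≤ q) {n : ℕ} (hn : 1 ≤ n) : wsum q n + 1 ≤ q ^ n := by
  have := (coeff_bound hq (Nat.lt_succ_self n)).1 hn
  rw [← wsum_eq] at this
  exact_mod_cast this

theorem wsum_le' {q : ℕ} (hq : 1 ≤ q) {n : ℕ} (hn : 3 ≤ n) : wsum q n + q ≤ q ^ n := by
  have := (coeff_bound hq (Nat.lt_succ_self n)).2 hn
  rw [← wsum_eq] at this
  exact_mod_cast this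

end H64.CN
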