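import Mathlib
import Cfsg.Agent.Lib.ClassNum.Data
import Cfsg.Agent.Lib.ClassNum.Series

/-!
Counting admissible sequences of polynomials, with the weights needed for `SL_n` and `PSL_n`.
-/

set_option autoImplicit false

namespace H64.CN

open Polynomial Finset

variable {F : Type*} [Field F]

lemma IsD.deg_eq_zero {n : ℕ} {u : ℕ → F[X]} (h : IsD n u) {k : ℕ} (hk : n < k) :
    (u k).natDegree = 0 := by
  have h1 := h.sum (k + 1) (by omega)
  rw [sum_range_succ, h.sum k hk] at h1
  have : k * (u k).natDegree = 0 := by omega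
  exact (mul_eq_zero.mp this).resolve_left (by omega)

lemma IsD.eq_one {n : ℕ} {u : ℕ → F[X]} (h : IsD n u) {k : ℕ} (hk : (u k).natDegree = 0) :
    u k = 1 := (h.monic k).natDegree_eq_zero.mp hk

/-- The product of the powers of the constant terms. -/
noncomputable def cst (n : ℕ) (u : ℕ → F[X]) : F := ∏ k ∈ range (n + 1), (u k).coeff 0 ^ k

variable (F) in
/-- The subgroup generated by the `k`-th powers for the block sizes `k` that occur. -/
def KT (τ : ℕ → ℕ) : Subgroup Fˣ := ⨆ (k : ℕ) (_ : 0 < τ k), (powMonoidHom k : Fˣ →* Fˣ).range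

/-- The index of `KT`. -/
noncomputable def gi (u : ℕ → F[X]) : ℕ := (KT F fun k => (u k).natDegree).index

lemma exists_prod_eq {n : ℕ} {τ : ℕ → ℕ} (h : ∀ k, n < k → τ k = 0) (a : KT F τ) :
    ∃ t : ℕ → Fˣ, ∏ k ∈ range (n + 1) with 0 < τ k, t k ^ k = a := by
  let φ : (ℕ → Fˣ) →* Fˣ := ∏ k ∈ range (n + 1) with 0 < τ k,
    (powMonoidHom k).comp (Pi.evalMonoidHom (fun _ => Fˣ) k)
  have : KT F τ ≤ φ.range := iSup₂_le fun k hk => by
    rintro _ ⟨b, rfl⟩
    refine ⟨Pi.mulSingle k b, ?_⟩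
    simp only [φ, MonoidHom.finsetProd_apply, MonoidHom.comp_apply, Pi.evalMonoidHom_apply]
    rw [prod_eq_single k, Pi.mulSingle_eq_same]
    · intro j _ hj; simp [hj]
    · intro hn
      refine (hn (mem_filter.mpr ⟨mem_range.mpr ?_, hk⟩)).elim
      by_contra e; have := h k (by omega); omega
  obtain ⟨t, ht⟩ := this a.2
  exact ⟨t, by simpa [φ] using ht⟩

/-- Rescaling the constant terms. -/
noncomputable def act (t : ℕ → Fˣ) (u : ℕ → F[X]) (k : ℕ) : F[X] :=
  if 0 < (u k).natDegree then u k + C ((t k - 1) * (u k).coeff 0) else u k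

lemma act_deg (t : ℕ → Fˣ) (u : ℕ → F[X]) (k : ℕ) : (act t u k).natDegree = (u k).natDegree := by
  unfold act; split_ifs
  · exact natDegree_add_C
  · rfl

lemma act_coeff (t : ℕ → Fˣ) (u : ℕ → F[X]) (k : ℕ) :
    (act t u k).coeff 0 = (if 0 < (u k).natDegree then (t k : F) else 1) * (u k).coeff 0 := by
  unfold act; split_ifs
  · rw [coeff_add, coeff_C_zero]; ring
  · simp

lemma act_injective (t : ℕ → Fˣ) : Function.Injective (act t) := by
  intro u v h
  funext k
  have h1 : (u k).natDegree = (v k).natDegree := by rw [← act_deg t u, h, act_deg]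
  have h2 := act_coeff t u k
  rw [h, act_coeff, h1] at h2
  have h3 := mul_left_cancel₀ (by split_ifs <;> simp) h2
  have h4 := congrFun h k
  unfold act at h4
  rw [h1, ← h3] at h4
  split_ifs at h4
  · exact add_right_cancel h4
  · exact h4

lemma IsD.act {n : ℕ} {u : ℕ → F[X]} (h : IsD n u) (t : ℕ → Fˣ) : IsD n (act t u) where
  monic k := by
    unfold CN.act; split_ifs with h1
    · exact (h.monic k).add_of_left (degree_C_le.trans_lt (natDegree_pos_iff_degree_pos.mp h1))
    · exact h.monic k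
  ne k := by rw [act_coeff]; exact mul_ne_zero (by split_ifs <;> simp) (h.ne k)
  zero := by simp [CN.act, h.zero]
  sum N hN := by simp only [act_deg]; exact h.sum N hN

lemma cst_act (n : ℕ) (t : ℕ → Fˣ) (u : ℕ → F[X]) : cst n (act t u) =
    (∏ k ∈ range (n + 1) with 0 < (u k).natDegree, t k ^ k : Fˣ) * cst n u := by
  simp only [cst, act_coeff, mul_pow, prod_mul_distrib, prod_filter, Units.coe_prod]
  congr 1
  exact prod_congr rfl fun k _ => by split_ifs <;> simp

variable [Fintype F]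

lemma exists_finset (j : ℕ) : ∃ s : Finset F[X], #s ≤ fq (Fintype.card F) j ∧
    ∀ p : F[X], p.Monic → p.coeff 0 ≠ 0 → p.natDegree = j → p ∈ s := by
  classical
  rcases j with _ | j
  · exact ⟨{1}, le_rfl, fun p h _ h' => mem_singleton.mpr (h.natDegree_eq_zero.mp h')⟩
  · refine ⟨univ.image fun a : Fˣ × (Fin j → F) =>
      X ^ (j + 1) + (∑ i, C (a.2 i) * X ^ (i + 1 : ℕ) + C (a.1 : F)), card_image_le.trans ?_,
      fun p h h0 h' => mem_image.mpr ⟨(Units.mk0 _ h0, fun i => p.coeff (i + 1)), mem_univ _, ?_⟩⟩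
    · simp [fq, Fintype.card_units]
    · conv_rhs => rw [h.as_sum, h', sum_range_succ', ← Fin.sum_univ_eq_sum_range
        (fun i => C (p.coeff (i + 1)) * X ^ (i + 1))]
      simp

lemma exists_finset_D (n : ℕ) : ∃ s : Finset (ℕ → F[X]), (∀ u, u ∈ s ↔ IsD n u) ∧
    #s ≤ wsum (Fintype.card F) n := by
  classical
  choose M hM hM' using exists_finset (F := F)
  let T := (range (n + 1)).biUnion fun k => ({ν ∈ finsuppAntidiag (range (n + 1)) k |
    ∑ i ∈ range (n + 1), (i + 1) * ν i = n} : Finset _).biUnion fun ν =>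
      (range (n + 1)).pi fun i => M (ν i)
  have hT : #T ≤ wsum (Fintype.card F) n := card_biUnion_le.trans (sum_le_sum fun k _ =>
    card_biUnion_le.trans (sum_le_sum fun ν _ => by
      rw [card_pi]; exact prod_le_prod' fun i _ => hM _))
  let φ : (ℕ → F[X]) → ∀ i ∈ range (n + 1), F[X] := fun u i _ => u (i + 1)
  have h1 : Set.InjOn φ {u | IsD n u} := by
    intro u hu v hv h
    funext k
    rcases k with _ | k
    · rw [hu.zero, hv.zero]
    · by_cases hk : k < n + 1
      · exact congrFun (congrFun h k) (mem_range.mpr hk)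
      · rw [hu.eq_one (hu.deg_eq_zero (by omega)), hv.eq_one (hv.deg_eq_zero (by omega))]
  have h2 : Set.MapsTo φ {u | IsD n u} T := by
    intro u hu
    have e := IsD.sum hu (n + 2) (by omega)
    rw [sum_range_succ', zero_mul, add_zero] at e
    let ν : ℕ →₀ ℕ := Finsupp.onFinset (range (n + 1)) (fun i => (u (i + 1)).natDegree)
      fun i hi => mem_range.mpr (by by_contra e; exact hi (hu.deg_eq_zero (by omega)))
    refine mem_coe.mpr (mem_biUnion.mpr ⟨∑ i ∈ range (n + 1), ν i, mem_range.mpr ?_,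
      mem_biUnion.mpr ⟨ν, mem_filter.mpr ⟨mem_finsuppAntidiag.mpr
        ⟨rfl, Finsupp.support_onFinset_subset⟩, e⟩, mem_pi.mpr fun i _ =>
          hM' _ _ (hu.monic _) (hu.ne _) rfl⟩⟩)
    refine Nat.lt_succ_of_le (le_of_le_of_eq (sum_le_sum fun i _ => ?_) e)
    exact Nat.le_mul_of_pos_left _ (Nat.succ_pos i)
  have hf : {u : ℕ → F[X] | IsD n u}.Finite := Set.Finite.of_injOn h2 h1 T.finite_toSet
  refine ⟨hf.toFinset, fun u => hf.mem_toFinset, le_trans ?_ hT⟩
  exact card_le_card_of_injOn φ (by simpa using h2) (by simpa using h1)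

variable (F) in
/-- The finite set of admissible sequences. -/
noncomputable def DS (n : ℕ) : Finset (ℕ → F[X]) := (exists_finset_D n).choose

lemma mem_DS {n : ℕ} {u : ℕ → F[X]} : u ∈ DS F n ↔ IsD n u := (exists_finset_D n).choose_spec.1 u

lemma card_DS {n : ℕ} (hn : 1 ≤ n) : #(DS F n) + 1 ≤ Fintype.card F ^ n :=
  (Nat.add_le_add_right (exists_finset_D n).choose_spec.2 _).trans (wsum_le Fintype.card_pos hn)

lemma card_DS' {n : ℕ} (hn : 3 ≤ n) : #(DS F n) + Fintype.card F ≤ Fintype.card F ^ n :=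
  (Nat.add_le_add_right (exists_finset_D n).choose_spec.2 _).trans (wsum_le' Fintype.card_pos hn)

lemma gi_mul (u : ℕ → F[X]) :
    Nat.card (KT F fun k => (u k).natDegree) * gi u = Fintype.card F - 1 := by
  rw [gi, Subgroup.card_mul_index, Nat.card_units, Nat.card_eq_fintype_card]

lemma gi_dvd {u : ℕ → F[X]} {k : ℕ} (hk : 0 < (u k).natDegree) : gi u ∣ k := by
  set K := KT F fun k => (u k).natDegree
  have : IsCyclic (Fˣ ⧸ K) := isCyclic_of_surjective _ (QuotientGroup.mk'_surjective K)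
  rw [gi, Subgroup.index, ← IsCyclic.exponent_eq_card, Monoid.exponent_dvd_iff_forall_pow_eq_one]
  rintro ⟨b⟩
  exact (QuotientGroup.eq_one_iff (b ^ k)).mpr
    (le_iSup₂_of_le (f := fun k (_ : 0 < (u k).natDegree) => (powMonoidHom k : Fˣ →* Fˣ).range)
      k hk le_rfl ⟨b, rfl⟩)

open Classical in
variable (F) in
/-- The weighted number of admissible sequences with given product of constant terms. -/
noncomputable def AS (n : ℕ) (s : F) : ℕ := ∑ u ∈ DS F n with cst n u = s, gi u

lemma AS_le (n : ℕ) (s : F) : (Fintype.card F - 1) * AS F n s ≤ ∑ u ∈ DS F n, gi u ^ 2 := by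
  classical
  have h0 : ∀ (τ : ℕ → ℕ) (a : Fˣ), ∃ t : ℕ → Fˣ, (∀ k, n < k → τ k = 0) → a ∈ KT F τ →
      ∏ k ∈ range (n + 1) with 0 < τ k, t k ^ k = a := by
    intro τ a
    by_cases h : (∀ k, n < k → τ k = 0) ∧ a ∈ KT F τ
    · obtain ⟨t, ht⟩ := exists_prod_eq h.1 ⟨a, h.2⟩
      exact ⟨t, fun _ _ => ht⟩
    · exact ⟨1, fun h1 h2 => absurd ⟨h1, h2⟩ h⟩
  choose t ht using h0
  let S := ({u ∈ DS F n | cst n u = s} : Finset _).sigma fun u =>
    ({a | a ∈ KT F fun k => (u k).natDegree} : Finset Fˣ)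
  let Ψ : (Σ _ : ℕ → F[X], Fˣ) → ℕ → F[X] := fun x => act (t (fun k => (x.1 k).natDegree) x.2) x.1
  have h1 : (Fintype.card F - 1) * AS F n s = ∑ x ∈ S, gi (Ψ x) ^ 2 := by
    rw [AS, mul_sum, sum_sigma]
    refine sum_congr rfl fun u _ => ?_
    simp only [Ψ, gi, act_deg, sum_const, smul_eq_mul]
    rw [← gi_mul u, Nat.card_eq_fintype_card, Fintype.card_subtype, gi]
    ring
  have h2 : Set.InjOn Ψ S := by
    rintro ⟨u, a⟩ hu ⟨v, b⟩ hv h
    simp only [S, mem_coe, mem_sigma, mem_filter, mem_DS, mem_univ, true_and] at hu hv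
    have e1 : (fun k => (u k).natDegree) = fun k => (v k).natDegree := by
      funext k
      have := congrArg (fun w => (w k).natDegree) h
      simpa only [Ψ, act_deg] using this
    have e2 := congrArg (cst n) h
    simp only [Ψ, cst_act] at e2
    rw [ht _ _ (fun k => hu.1.1.deg_eq_zero) hu.2, ht _ _ (fun k => hv.1.1.deg_eq_zero) hv.2,
      hu.1.2, hv.1.2] at e2
    have hs : s ≠ 0 := hu.1.2 ▸ prod_ne_zero_iff.mpr fun k _ => pow_ne_zero _ (hu.1.1.ne k)
    obtain rfl : a = b := Units.ext (mul_right_cancel₀ hs e2)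
    simp only [Ψ, e1] at h
    rw [act_injective _ h]
  rw [h1, ← sum_image (f := fun u => gi u ^ 2) h2]
  refine sum_le_sum_of_subset (image_subset_iff.mpr fun x hx => ?_)
  exact mem_DS.mpr ((mem_DS.mp (mem_filter.mp (mem_sigma.mp hx).1).1).act _)

lemma sum_mul_range {g N : ℕ} (hg : 0 < g) (f : ℕ → ℕ) (h : ∀ k, f k ≠ 0 → g ∣ k) :
    ∑ k ∈ range (g * N), f k = ∑ j ∈ range N, f (g * j) := by
  rw [← sum_image (g := (g * ·)) fun _ _ _ _ h => Nat.eq_of_mul_eq_mul_left hg h]
  refine (sum_subset (image_subset_iff.mpr fun j hj => mem_range.mpr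
    (Nat.mul_lt_mul_of_pos_left (mem_range.mp hj) hg)) fun k hk hk' => ?_).symm
  by_contra e
  obtain ⟨j, rfl⟩ := h k e
  exact hk' (mem_image.mpr ⟨j, mem_range.mpr (Nat.lt_of_mul_lt_mul_left (mem_range.mp hk)), rfl⟩)

lemma card_gi_le {n g : ℕ} (hg : 0 < g) : #{u ∈ DS F n | gi u = g} ≤ #(DS F (n / g)) := by
  have h0 : ∀ u : ℕ → F[X], gi u = g → ∀ k, (u k).natDegree ≠ 0 → g ∣ k := fun u hu k hk =>
    hu ▸ gi_dvd (Nat.pos_of_ne_zero hk)
  refine card_le_card_of_injOn (fun u j => u (g * j)) (fun u hu => ?_) fun u hu v hv h => ?_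
  · obtain ⟨h1, h2⟩ := mem_filter.mp hu
    have h1 := mem_DS.mp h1
    refine mem_DS.mpr ⟨fun _ => h1.monic _, fun _ => h1.ne _, h1.zero, fun N hN => ?_⟩
    have := h1.sum (g * N) ((Nat.div_lt_iff_lt_mul hg).mp hN |>.trans_eq (mul_comm _ _))
    rw [sum_mul_range hg _ fun k hk => h0 u h2 k (right_ne_zero_of_mul hk)] at this
    rw [← this]
    simp only [mul_assoc, ← mul_sum]
    rw [Nat.mul_div_cancel_left _ hg]
  · obtain ⟨h1, h2⟩ := mem_filter.mp hu
    obtain ⟨h3, h4⟩ := mem_filter.mp hv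
    funext k
    by_cases hk : g ∣ k
    · obtain ⟨j, rfl⟩ := hk
      exact congrFun h j
    · rw [(mem_DS.mp h1).eq_one (by_contra fun e => hk (h0 u h2 k e)),
        (mem_DS.mp h3).eq_one (by_contra fun e => hk (h0 v h4 k e))]

lemma sum_sq_le (n : ℕ) : ∑ u ∈ DS F n, gi u ^ 2 ≤ #(DS F n) +
    ∑ g ∈ range (Fintype.card F) with 2 ≤ g ∧ g ∣ n ∧ g ∣ Fintype.card F - 1,
      (g ^ 2 - 1) * #(DS F (n / g)) := by
  have hq : 1 < Fintype.card F := Fintype.one_lt_card
  calc _ ≤ ∑ u ∈ DS F n, (1 + ∑ g ∈ range (Fintype.card F) with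
        2 ≤ g ∧ g ∣ n ∧ g ∣ Fintype.card F - 1, if gi u = g then g ^ 2 - 1 else 0) := by
        refine sum_le_sum fun u hu => ?_
        have h1 : gi u ∣ Fintype.card F - 1 := Dvd.intro_left _ (gi_mul u)
        have h2 : gi u ∣ n := by
          rw [← (mem_DS.mp hu).sum (n + 1) (by omega)]
          refine dvd_sum fun k _ => ?_
          rcases Nat.eq_zero_or_pos (u k).natDegree with h | h
          · simp [h]
          · exact (gi_dvd h).mul_right _
        have h3 := Nat.le_of_dvd (by omega) h1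
        rw [sum_ite_eq]
        split_ifs with h
        · omega
        · have : gi u ≤ 1 := by
            by_contra e
            exact h (mem_filter.mpr ⟨mem_range.mpr (by omega), by omega, h2, h1⟩)
          exact (Nat.pow_le_pow_left this 2).trans (by simp)
    _ ≤ _ := by
        rw [sum_add_distrib, sum_comm, card_eq_sum_ones]
        refine Nat.add_le_add_left (sum_le_sum fun g hg => ?_) _
        rw [← sum_filter, sum_const, smul_eq_mul, mul_comm]
        exact Nat.mul_le_mul_left _ (card_gi_le (by have := (mem_filter.mp hg).2.1; omega))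

open Classical in
lemma sum_dvd_le {n e : ℕ} (he : 0 < e) (s : F) :
    ∑ u ∈ DS F n with cst n u = s ∧ ∀ k j, (u k).coeff j ≠ 0 → e ∣ j, gi u ≤ AS F (n / e) s := by
  have h0 : ∀ u : ℕ → F[X], (∀ k j, (u k).coeff j ≠ 0 → e ∣ j) → ∀ k,
      expand F e (contract e (u k)) = u k := by
    intro u hu k
    ext j
    rw [coeff_expand he, coeff_contract he.ne']
    split_ifs with h
    · rw [Nat.div_mul_cancel h]
    · exact (by_contra fun e => h (hu k j e) : (u k).coeff j = 0).symm
  have h1 : ∀ u : ℕ → F[X], (∀ k j, (u k).coeff j ≠ 0 → e ∣ j) → ∀ k,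
      (u k).natDegree = (contract e (u k)).natDegree * e := fun u hu k => by
    rw [← natDegree_expand, h0 u hu]
  rw [AS]
  refine le_trans (le_of_eq ?_) (sum_le_sum_of_subset (s := image (fun u k => contract e (u k))
    {u ∈ DS F n | cst n u = s ∧ ∀ k j, (u k).coeff j ≠ 0 → e ∣ j}) (image_subset_iff.mpr ?_))
  · rw [sum_image]
    · refine sum_congr rfl fun u hu => ?_
      simp only [gi, KT, h1 u (mem_filter.mp hu).2.2, Nat.pos_iff_ne_zero, mul_ne_zero_iff, ne_eq,
        he.ne', not_false_eq_true, and_true]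
    · intro u hu v hv h
      funext k
      rw [← h0 u (mem_filter.mp hu).2.2, ← h0 v (mem_filter.mp hv).2.2]
      exact congrArg _ (congrFun h k)
  · intro u hu
    obtain ⟨a1, a2, a3⟩ := mem_filter.mp hu
    have a1 := mem_DS.mp a1
    have key : ∀ N, n < N → ∑ k ∈ range N, k * (contract e (u k)).natDegree = n / e := by
      intro N hN
      rw [← a1.sum N hN]
      simp only [h1 u a3, ← mul_assoc, ← sum_mul]
      rw [Nat.mul_div_cancel _ he]
    have z : ∀ k, n / e < k → u k = 1 := by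
      intro k hk
      refine a1.eq_one ?_
      have b1 := key (n + k + 1) (by omega)
      have b2 := single_le_sum (f := fun k => k * (contract e (u k)).natDegree)
        (fun _ _ => Nat.zero_le _) (mem_range.mpr (show k < n + k + 1 by omega))
      rw [h1 u a3, show (contract e (u k)).natDegree = 0 by
        by_contra h; have := Nat.pos_of_ne_zero h; nlinarith, zero_mul]
    have c0 : ∀ k, (contract e (u k)).coeff 0 = (u k).coeff 0 := fun k => by
      rw [coeff_contract he.ne', zero_mul]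
    have c1 : contract e (1 : F[X]) = 1 := by rw [← C_1, contract_C]
    refine mem_filter.mpr ⟨mem_DS.mpr ⟨fun k => (monic_expand_iff he).mp ?_, fun k => ?_, ?_,
      fun N hN => ?_⟩, ?_⟩
    · rw [h0 u a3]; exact a1.monic k
    · rw [c0]; exact a1.ne k
    · simp only [a1.zero, c1]
    · rw [← key (n + N + 1) (by omega)]
      exact sum_subset (range_mono (by omega)) fun k _ hk => by
        rw [z k (by simp at hk; omega), c1]; simp
    · rw [← a2, cst, cst]
      simp only [c0]
      exact prod_subset (range_mono (by have := Nat.div_le_self n e; omega)) fun k _ hk => by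
        rw [z k (by simp at hk; omega)]; simp

end H64.CN
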