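import Mathlib
import Cfsg.Agent.Lib.ClassNum.Count
import Cfsg.Agent.Lib.MatConj.Centralizer
import Cfsg.Agent.Lib.GL.Basic
import Cfsg.Agent.S2384

/-!
Bounds for the class numbers of `GL_n(q)`, `SL_n(q)`, `PSL_n(q)` (Fulman–Guralnick).
-/

set_option autoImplicit false

namespace H64.CN

open Polynomial Finset H65

section Quot

variable {G : Type*} [Group G]

/-- Central elements act on the conjugacy classes. -/
@[reducible] def cenAct (Z : Subgroup G) (hZ : Z ≤ Subgroup.center G) :
    MulAction Z (ConjClasses G) where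
  smul z := Quotient.map' (fun g => z * g) fun a b h => by
    obtain ⟨c, rfl⟩ := isConj_iff.mp h
    exact isConj_iff.mpr ⟨c, by
      rw [← mul_assoc, Subgroup.mem_center_iff.mp (hZ z.2) c]; simp only [mul_assoc]⟩
  one_smul := by rintro ⟨g⟩; exact congrArg ConjClasses.mk (one_mul g)
  mul_smul := by rintro a b ⟨g⟩; exact congrArg ConjClasses.mk (mul_assoc (a : G) b g)

theorem card_mul_card_quot [Finite G] (Z : Subgroup G) [Z.Normal] [Fintype Z]
    (hZ : Z ≤ Subgroup.center G) : Nat.card Z * Nat.card (ConjClasses (G ⧸ Z)) =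
      ∑ z : Z, Nat.card {C : ConjClasses G // ∃ g, ConjClasses.mk g = C ∧ IsConj (z * g) g} := by
  classical
  let _ := cenAct Z hZ
  have hs : ∀ (z : Z) (g : G), z • ConjClasses.mk g = ConjClasses.mk (z * g) := fun _ _ => rfl
  have := Fintype.ofFinite (ConjClasses G)
  have := Fintype.ofFinite (MulAction.orbitRel.Quotient Z (ConjClasses G))
  have h := MulAction.sum_card_fixedBy_eq_card_orbits_mul_card_group Z (ConjClasses G)
  simp only [← Nat.card_eq_fintype_card] at h
  have e : Setoid.ker (ConjClasses.map (QuotientGroup.mk' Z)) =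
      MulAction.orbitRel Z (ConjClasses G) := by
    ext ⟨a⟩ ⟨b⟩
    change ConjClasses.mk (a : G ⧸ Z) = ConjClasses.mk (b : G ⧸ Z) ↔
      ∃ z : Z, ConjClasses.mk (z * b) = ConjClasses.mk a
    simp only [ConjClasses.mk_eq_mk_iff_isConj, isConj_iff]
    constructor
    · rintro ⟨⟨c⟩, hc⟩
      have : ((c * a * c⁻¹ : G) : G ⧸ Z) = b := hc
      rw [eq_comm, QuotientGroup.eq] at this
      refine ⟨⟨_, this⟩, c⁻¹, ?_⟩
      rw [← Subgroup.mem_center_iff.mp (hZ this) b]; group
    · rintro ⟨z, c, rfl⟩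
      exact ⟨(c⁻¹ : G), by simp [mul_assoc, (QuotientGroup.eq_one_iff _).mpr z.2]⟩
  rw [← Nat.card_congr (Setoid.quotientKerEquivOfSurjective _
    (ConjClasses.map_surjective (QuotientGroup.mk'_surjective Z))), e, mul_comm, ← h]
  refine sum_congr rfl fun z _ => Nat.card_congr (Equiv.subtypeEquivRight ?_)
  rintro ⟨g⟩
  change ConjClasses.mk (z * g) = ConjClasses.mk g ↔ ∃ g', _ = ConjClasses.mk g ∧ _
  refine ⟨fun h => ⟨g, rfl, ConjClasses.mk_eq_mk_iff_isConj.mp h⟩, ?_⟩
  rintro ⟨g', h1, h2⟩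
  rw [← hs, ← h1, hs]
  exact ConjClasses.mk_eq_mk_iff_isConj.mpr h2

end Quot

variable {F : Type*} [Field F] [Fintype F]

lemma AS_mul_le {n : ℕ} (hn : 1 ≤ n) (s : F) : (Fintype.card F - 1) * AS F n s ≤ #(DS F n) +
    ∑ g ∈ range (Fintype.card F) with 2 ≤ g ∧ g ∣ n,
      (g ^ 2 - 1) * (Fintype.card F ^ (n / g) - 1) :=
  (AS_le n s).trans ((sum_sq_le n).trans (Nat.add_le_add_left
    ((sum_le_sum fun g hg => Nat.mul_le_mul_left _ (Nat.le_sub_one_of_lt (card_DS (Nat.div_pos
      (Nat.le_of_dvd hn (mem_filter.mp hg).2.2.1) (by have := (mem_filter.mp hg).2.1; omega))))).trans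
    (sum_le_sum_of_subset (monotone_filter_right _ fun _ _ h => ⟨h.1, h.2.1⟩))) _))

lemma AS_one (s : F) : AS F 1 s ≤ 1 := by
  have h := AS_mul_le le_rfl s
  have h1 := card_DS (F := F) le_rfl
  have hq : 1 < Fintype.card F := Fintype.one_lt_card
  rw [filter_false_of_mem (fun g _ h => by have := Nat.le_of_dvd one_pos h.2; omega), sum_empty] at h
  rw [pow_one] at h1
  exact Nat.le_of_mul_le_mul_left (c := Fintype.card F - 1) (by omega) (by omega)

lemma AS_two (s : F) : AS F 2 s ≤ Fintype.card F + 4 ∧ 2 * AS F 2 s ≤ 5 * Fintype.card F := by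
  have h := AS_mul_le one_le_two s
  have h1 := card_DS (F := F) one_le_two
  have hq : 1 < Fintype.card F := Fintype.one_lt_card
  generalize Fintype.card F = q at *
  obtain ⟨x, rfl⟩ : ∃ x, q = x + 1 := ⟨q - 1, by omega⟩
  have h2 := sum_le_sum_of_subset (f := fun g => (g ^ 2 - 1) * ((x + 1) ^ (2 / g) - 1))
    (s := {g ∈ range (x + 1) | 2 ≤ g ∧ g ∣ 2}) (t := {2}) fun g hg => by
      have := (mem_filter.mp hg).2
      have := Nat.le_of_dvd two_pos this.2
      simp; omega
  simp only [sum_singleton, Nat.add_sub_cancel] at h h2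
  norm_num at h2
  have h3 : AS F 2 s ≤ x + 1 + 4 := Nat.le_of_mul_le_mul_left (c := x) (by nlinarith) (by omega)
  refine ⟨h3, ?_⟩
  by_cases hx : x = 1
  · subst hx
    rw [filter_false_of_mem (fun g hg h => by simp at hg; omega), sum_empty] at h
    omega
  · omega

lemma sum_sq_range (q : ℕ) : 3 * ∑ g ∈ range q, g ^ 2 ≤ q ^ 3 := by
  induction q with
  | zero => simp
  | succ q ih => rw [sum_range_succ]; nlinarith [Nat.zero_le q]

lemma tail_le {q n : ℕ} (hq : 2 ≤ q) (hn : 3 ≤ n) :
    ∑ g ∈ range q with 2 ≤ g ∧ g ∣ n, (g ^ 2 - 1) * (q ^ (n / g) - 1) + 3 * q ^ (n - 2) ≤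
      2 * q ^ (n - 1) + q := by
  have sub : ∀ T : Finset ℕ, (∀ g, g < q → 2 ≤ g → g ≤ n → g ∣ n → g ∈ T) →
      ∑ g ∈ range q with 2 ≤ g ∧ g ∣ n, (g ^ 2 - 1) * (q ^ (n / g) - 1) ≤
        ∑ g ∈ T, (g ^ 2 - 1) * (q ^ (n / g) - 1) := fun T hT =>
    sum_le_sum_of_subset fun g hg => by
      obtain ⟨a, b, c⟩ := mem_filter.mp hg
      exact hT g (mem_range.mp a) b (Nat.le_of_dvd (by omega) c) c
  by_cases h2 : q = 2
  · subst h2
    have := sub ∅ (by intros; omega)
    obtain ⟨m, rfl⟩ : ∃ m, n = m + 2 := ⟨n - 2, by omega⟩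
    simp only [sum_empty, Nat.add_sub_cancel, show m + 2 - 1 = m + 1 from rfl, pow_succ] at this ⊢
    omega
  obtain ⟨x, rfl⟩ : ∃ x, q = x + 1 := ⟨q - 1, by omega⟩
  by_cases h3 : n = 3
  · subst h3
    by_cases hx : x = 2
    · subst hx
      have := sub ∅ (by intro g a b c d; interval_cases g <;> simp_all)
      simp only [sum_empty] at this
      omega
    · have := sub {3} (by intro g a b c d; interval_cases g <;> simp_all)
      norm_num at this ⊢
      have : 3 ≤ x := by omega
      nlinarith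
  by_cases h4 : n = 4
  · subst h4
    have e : (x + 1) ^ 2 - 1 = x ^ 2 + 2 * x := by rw [Nat.sub_eq_iff_eq_add (by nlinarith)]; ring
    by_cases hx : x ≤ 3
    · have := sub {2} (by intro g a b c d; interval_cases g <;> simp_all; omega)
      norm_num [e] at this ⊢
      have : 2 ≤ x := by omega
      nlinarith
    · have := sub {2, 4} (by intro g a b c d; interval_cases g <;> simp_all)
      norm_num [e] at this ⊢
      have : 4 ≤ x := by omega
      nlinarith
  obtain ⟨m, rfl⟩ : ∃ m, n = m + 4 := ⟨n - 4, by omega⟩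
  have h5 : ∑ g ∈ range (x + 1) with 2 ≤ g ∧ g ∣ m + 4, (g ^ 2 - 1) * ((x + 1) ^ ((m + 4) / g) - 1) ≤
      ∑ g ∈ range (x + 1), ((if g = 2 then 3 * (x + 1) ^ (m + 1) else 0) + g ^ 2 * (x + 1) ^ m) := by
    refine (sum_le_sum fun g hg => ?_).trans (sum_le_sum_of_subset (filter_subset _ _))
    obtain ⟨-, b, c⟩ := mem_filter.mp hg
    split_ifs with h
    · subst h
      exact le_add_right (Nat.mul_le_mul_left _ ((Nat.sub_le _ _).trans
        (Nat.pow_le_pow_right (by omega) (by omega))))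
    · rw [zero_add]
      refine Nat.mul_le_mul (Nat.sub_le _ _) ((Nat.sub_le _ _).trans
        (Nat.pow_le_pow_right (by omega) ?_))
      by_cases hm : m = 1
      · subst hm
        have := Nat.le_of_dvd (by omega) c
        interval_cases g <;> simp_all
      · exact (Nat.div_le_div_left (show 3 ≤ g by omega) (by omega)).trans (by omega)
  rw [sum_add_distrib, sum_ite_eq', if_pos (by simp; omega), ← sum_mul] at h5
  have h6 := Nat.mul_le_mul_right ((x + 1) ^ m) (sum_sq_range (x + 1))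
  have h7 : 9 * (x + 1) + 9 * (x + 1) ^ 2 ≤ 5 * (x + 1) ^ 3 := by
    have : 2 ≤ x := by omega
    nlinarith
  have h8 := Nat.mul_le_mul_right ((x + 1) ^ m) h7
  simp only [show m + 4 - 2 = m + 2 from rfl, show m + 4 - 1 = m + 3 from rfl, pow_add] at h5 ⊢
  nlinarith

lemma AS_three {n : ℕ} (hn : 3 ≤ n) (s : F) :
    AS F n s ≤ Fintype.card F ^ (n - 1) + 3 * Fintype.card F ^ (n - 2) := by
  have h := AS_mul_le (n := n) (by omega) s
  have h1 := card_DS' (F := F) hn
  have hq : 1 < Fintype.card F := Fintype.one_lt_card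
  have h2 := tail_le hq hn
  generalize Fintype.card F = q at *
  obtain ⟨x, rfl⟩ : ∃ x, q = x + 1 := ⟨q - 1, by omega⟩
  obtain ⟨m, rfl⟩ : ∃ m, n = m + 2 := ⟨n - 2, by omega⟩
  refine Nat.le_of_mul_le_mul_left (c := x) ?_ (by omega)
  simp only [Nat.add_sub_cancel, show m + 2 - 1 = m + 1 from rfl, pow_succ] at h h1 h2 ⊢
  nlinarith

lemma AS_le_five {n : ℕ} (hn : 1 ≤ n) (s : F) : 2 * AS F n s ≤ 5 * Fintype.card F ^ (n - 1) := by
  rcases n with _ | _ | _ | m
  · omega
  · have := AS_one s; simp; omega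
  · simpa using (AS_two s).2
  · have := AS_three (n := m + 3) (by omega) s
    have hq : 1 < Fintype.card F := Fintype.one_lt_card
    simp only [show m + 3 - 2 = m + 1 from rfl, show m + 3 - 1 = m + 1 + 1 from rfl,
      show m + 1 + 1 + 1 - 1 = m + 1 + 1 from rfl, pow_succ _ (m + 1)] at this ⊢
    nlinarith [Nat.zero_le (Fintype.card F ^ (m + 1))]

variable {n : ℕ}

omit [Fintype F] in
lemma has_isD {g : GL (Fin n) F} {u : ℕ → F[X]} (h : Has (Matrix.toLin' g.1) u) : IsD n u := by
  simpa using h.isD (by simpa using g.det_ne_zero)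

theorem card_GL_le (hn : 1 ≤ n) :
    Nat.card (ConjClasses (GL (Fin n) F)) + 1 ≤ Fintype.card F ^ n := by
  choose g hg using ConjClasses.mk_surjective (α := GL (Fin n) F)
  choose u hu using fun C => exists_has (Matrix.toLin' (g C).1)
  refine le_trans (Nat.add_le_add_right ?_ _) (card_DS hn)
  rw [← Nat.card_eq_finsetCard]
  refine Nat.card_le_card_of_injective (fun C => ⟨u C, mem_DS.mpr (has_isD (hu C))⟩) fun C D h => ?_
  rw [← hg C, ← hg D, ConjClasses.mk_eq_mk_iff_isConj, isConj_gl_iff_similar]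
  have e : u C = u D := congrArg Subtype.val h
  exact (hu C).similar (e ▸ hu D)

theorem le_card_GL (m : ℕ) : (Fintype.card F - 1) * Fintype.card F ^ m ≤
    Nat.card (ConjClasses (GL (Fin (m + 1)) F)) := by
  classical
  let P : Fˣ × (Fin m → F) → F[X] := fun a =>
    X ^ (m + 1) + (∑ i, C (a.2 i) * X ^ (i + 1 : ℕ) + C (a.1 : F))
  have c0 : ∀ a, (P a).coeff 0 = a.1 := fun a => by simp [P, coeff_X_pow]
  have c1 : ∀ a (i : Fin m), (P a).coeff (i + 1) = a.2 i := fun a i => by
    simp [P, coeff_X_pow, i.2.ne, Fin.val_inj]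
  have hd : ∀ a : Fˣ × (Fin m → F),
      (∑ i, C (a.2 i) * X ^ (i + 1 : ℕ) + C (a.1 : F)).degree < (X ^ (m + 1) : F[X]).degree := by
    intro a
    rw [degree_X_pow]
    refine (degree_add_le _ _).trans_lt (max_lt ?_ (degree_C_le.trans_lt (by positivity)))
    refine (degree_sum_le _ _).trans_lt ((Finset.sup_lt_iff (WithBot.bot_lt_coe _)).mpr fun i _ =>
      (degree_C_mul_X_pow_le _ _).trans_lt (by exact_mod_cast Nat.succ_lt_succ i.2))
  have h1 : ∀ a, ∃ g : GL (Fin (m + 1)) F, g.1.charpoly = P a := by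
    intro a
    have hm : (P a).Monic := (monic_X_pow _).add_of_left (hd a)
    have := hm.finite_adjoinRoot
    obtain ⟨A, hA⟩ := exists_matrix_similar (cyc (P a)) (n := Fin (m + 1)) (by
      rw [finrank_adjoinRoot, natDegree_add_eq_left_of_degree_lt (hd a)]; simp)
    have h2 : A.charpoly = P a := by
      rw [← Matrix.charpoly_toLin', ← hA.charpoly_eq, charpoly_cyc hm]
    exact ⟨Matrix.GeneralLinearGroup.mkOfDetNeZero A (by
      rw [Matrix.det_eq_sign_charpoly_coeff, h2, c0]; simp), h2⟩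
  choose g hg using h1
  have : Nat.card (Fˣ × (Fin m → F)) = (Fintype.card F - 1) * Fintype.card F ^ m := by
    simp [Fintype.card_units]
  rw [← this]
  refine Nat.card_le_card_of_injective (fun a => ConjClasses.mk (g a)) fun a b h => ?_
  have h2 := ((isConj_gl_iff_similar _ _).mp (ConjClasses.mk_eq_mk_iff_isConj.mp h)).charpoly_eq
  rw [Matrix.charpoly_toLin', Matrix.charpoly_toLin', hg, hg] at h2
  exact Prod.ext (Units.ext (by rw [← c0, h2, c0])) (funext fun i => by rw [← c1, h2, c1])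

theorem card_fix_le (hn : 1 ≤ n) (z : Matrix.SpecialLinearGroup (Fin n) F) {c : F} (hc : c ≠ 0)
    (hz : z.1 = c • 1) : Nat.card {C : ConjClasses (Matrix.SpecialLinearGroup (Fin n) F) //
      ∃ g, ConjClasses.mk g = C ∧ IsConj (z * g) g} ≤ AS F (n / orderOf c) ((-1) ^ n) := by
  classical
  have he : 0 < orderOf c := orderOf_units (y := Units.mk0 c hc) ▸ orderOf_pos (Units.mk0 c hc)
  refine le_trans ?_ (sum_dvd_le he _)
  set T := {C : ConjClasses (Matrix.SpecialLinearGroup (Fin n) F) //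
      ∃ g, ConjClasses.mk g = C ∧ IsConj (z * g) g}
  have := Fintype.ofFinite T
  choose g hg hg' using fun C : T => C.2
  choose u hu using fun C => exists_has (Matrix.toLin' (g C).1)
  rw [Nat.card_eq_fintype_card, ← card_univ, card_eq_sum_card_fiberwise (f := u)]
  · refine sum_le_sum fun v _ => ?_
    rcases ({C | u C = v} : Finset T).eq_empty_or_nonempty with h | ⟨C0, h0⟩
    · simp [h]
    obtain rfl := (mem_filter.mp h0).2
    have : Nonempty (Fin n) := ⟨⟨0, hn⟩⟩
    have h1 := card_conjClasses_split Matrix.SpecialLinearGroup.toGL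
      Matrix.SpecialLinearGroup.toGL_injective Matrix.GeneralLinearGroup.det
      Matrix.GeneralLinearGroup.det_surjective H10.range_toGL (g C0)
    have h2 : KT F (fun k => (u C0 k).natDegree) ≤ (Subgroup.centralizer
        {Matrix.SpecialLinearGroup.toGL (g C0)}).map Matrix.GeneralLinearGroup.det :=
      iSup₂_le fun k hk => by
        rintro _ ⟨b, rfl⟩
        obtain ⟨y, hy, hy'⟩ := (hu C0).exists_commute hk b
        rw [← LinearMap.det_toMatrix'] at hy'
        refine ⟨Matrix.GeneralLinearGroup.mkOfDetNeZero (LinearMap.toMatrix' y) (by simp [hy']),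
          Subgroup.mem_centralizer_singleton_iff.mpr (Units.ext ?_), Units.ext (by simpa using hy')⟩
        apply Matrix.toLin'.injective
        simpa [Matrix.toLin'_mul, ← Module.End.mul_eq_comp] using hy.eq.symm
    refine le_trans ?_ (h1.le.trans (Subgroup.index_antitone h2))
    rw [← Nat.card_eq_finsetCard]
    refine Nat.card_le_card_of_injective (fun C => ⟨C.1.1, g C.1, hg _,
      (isConj_gl_iff_similar _ _).mpr ((hu C0).similar ?_)⟩) fun C D h => ?_
    · have e : u C.1 = u C0 := (mem_filter.mp C.2).2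
      have := hu C.1
      rw [e] at this
      exact this
    · have e : C.1.1 = D.1.1 := congrArg (fun x => x.1) h
      exact Subtype.ext (Subtype.ext e)
  · intro C _
    have hD : IsD n (u C) := has_isD (g := Matrix.SpecialLinearGroup.toGL (g C)) (hu C)
    refine mem_filter.mpr ⟨mem_DS.mpr hD, ?_, fun k j hj => (hu C).dvd hc ?_ (hD.ne k) hj⟩
    · simpa [cst] using (hu C).cst (N := n + 1) (by simp)
    · have := (isConj_gl_iff_similar _ _).mp (Matrix.SpecialLinearGroup.toGL.map_isConj (hg' C))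
      simpa [hz, Matrix.SpecialLinearGroup.coe_mul] using this

theorem card_SL_le (hn : 1 ≤ n) :
    Nat.card (ConjClasses (Matrix.SpecialLinearGroup (Fin n) F)) ≤ AS F n ((-1) ^ n) := by
  have := card_fix_le hn (1 : Matrix.SpecialLinearGroup (Fin n) F) one_ne_zero (by simp)
  rwa [orderOf_one, Nat.div_one, Nat.card_congr (Equiv.subtypeUnivEquiv fun C => by
    obtain ⟨g, rfl⟩ := ConjClasses.mk_surjective C
    exact ⟨g, rfl, by rw [one_mul]⟩)] at this

theorem card_PSL_le (hn : 2 ≤ n) : Nat.gcd n (Fintype.card F - 1) *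
    Nat.card (ConjClasses (Matrix.ProjectiveSpecialLinearGroup (Fin n) F)) ≤
      Fintype.card F ^ (n - 1) + 5 * Fintype.card F ^ (n - 2) := by
  classical
  have : Nonempty (Fin n) := ⟨⟨0, by omega⟩⟩
  set Z := Subgroup.center (Matrix.SpecialLinearGroup (Fin n) F)
  have := Fintype.ofFinite Z
  have hZ : Nat.card Z = Nat.gcd n (Fintype.card F - 1) := by
    rw [H10.card_center_SL, Fintype.card_fin, Nat.card_eq_fintype_card]
  have hq : 1 < Fintype.card F := Fintype.one_lt_card
  have h1 := card_mul_card_quot Z le_rfl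
  rw [hZ] at h1
  refine h1.le.trans ?_
  rw [← add_sum_erase _ _ (mem_univ 1)]
  have h2 := card_fix_le (n := n) (by omega) (1 : Z) (one_ne_zero (α := F)) (by simp)
  rw [orderOf_one, Nat.div_one] at h2
  have h3 : ∀ z ∈ univ.erase (1 : Z), ∃ m, 1 ≤ m ∧ m ≤ n / 2 ∧
      Nat.card {C : ConjClasses (Matrix.SpecialLinearGroup (Fin n) F) //
        ∃ g, ConjClasses.mk g = C ∧ IsConj (z * g) g} ≤ AS F m ((-1) ^ n) := by
    intro z hz
    obtain ⟨c, hc, hc'⟩ := Matrix.SpecialLinearGroup.mem_center_iff.mp z.2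
    rw [Fintype.card_fin] at hc
    have h0 : c ≠ 0 := by rintro rfl; simp [show n ≠ 0 by omega] at hc
    have a1 : orderOf c ∣ n := orderOf_dvd_of_pow_eq_one hc
    have a2 : orderOf c ≠ 1 := fun e => ne_of_mem_erase hz (Subtype.ext (Subtype.ext (by
      rw [← hc', orderOf_eq_one_iff.mp e]; simp)))
    have a3 : orderOf c ≠ 0 := fun e => by rw [e, zero_dvd_iff] at a1; omega
    exact ⟨_, Nat.div_pos (Nat.le_of_dvd (by omega) a1) (by omega),
      Nat.div_le_div_left (by omega) two_pos,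
      card_fix_le (by omega) _ h0 (by rw [← hc', Matrix.scalar_apply, Matrix.smul_one_eq_diagonal])⟩
  have h4 : #(univ.erase (1 : Z)) = Nat.gcd n (Fintype.card F - 1) - 1 := by
    rw [card_erase_of_mem (mem_univ _), card_univ, ← Nat.card_eq_fintype_card, hZ]
  have d1 := Nat.gcd_le_left (Fintype.card F - 1) (show 0 < n by omega)
  have d2 := Nat.gcd_le_right n (show 0 < Fintype.card F - 1 by omega)
  by_cases hn3 : n ≤ 3
  · have h5 := sum_le_card_nsmul _ _ 1 fun z hz => by
      obtain ⟨m, a, b, c⟩ := h3 z hz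
      obtain rfl : m = 1 := by omega
      exact c.trans (AS_one _)
    rw [h4, smul_eq_mul, mul_one] at h5
    refine (Nat.add_le_add h2 h5).trans ?_
    obtain rfl | rfl : n = 2 ∨ n = 3 := by omega
    · have := (AS_two (F := F) ((-1) ^ 2)).1
      simp only [Nat.add_one_sub_one, pow_one, Nat.sub_self, pow_zero]
      omega
    · have := AS_three (F := F) le_rfl ((-1) ^ 3)
      simp only [Nat.add_one_sub_one, pow_one, Nat.reduceSub] at this ⊢
      omega
  · have h5 := sum_le_card_nsmul _ (fun z : Z => 2 *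
        Nat.card {C : ConjClasses (Matrix.SpecialLinearGroup (Fin n) F) //
        ∃ g, ConjClasses.mk g = C ∧ IsConj (z * g) g}) (5 * Fintype.card F ^ (n / 2 - 1))
      fun z hz => by
        obtain ⟨m, a, b, c⟩ := h3 z hz
        exact ((Nat.mul_le_mul_left _ c).trans (AS_le_five a _)).trans
          (Nat.mul_le_mul_left _ (Nat.pow_le_pow_right (by omega) (by omega)))
    rw [h4, smul_eq_mul, ← mul_sum] at h5
    have h6 := AS_three (F := F) (n := n) (by omega) ((-1) ^ n)
    suffices (Nat.gcd n (Fintype.card F - 1) - 1) * (5 * Fintype.card F ^ (n / 2 - 1)) ≤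
      4 * Fintype.card F ^ (n - 2) by omega
    generalize Nat.gcd n (Fintype.card F - 1) = d at d1 d2 ⊢
    generalize Fintype.card F = q at hq d2 ⊢
    by_cases h4 : n = 4
    · subst h4
      norm_num
      have : (d - 1) * 5 ≤ 4 * q := by omega
      nlinarith
    · have e : q ^ (n - 2) = q ^ (n / 2 - 1) * q ^ (n - 1 - n / 2) := by
        rw [← pow_add]; congr 1; omega
      have a1 : q ^ 2 ≤ q ^ (n - 1 - n / 2) := Nat.pow_le_pow_right (by omega) (by omega)
      have a2 : (d - 1) * 5 ≤ 4 * q ^ (n - 1 - n / 2) := by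
        have : d - 1 ≤ q := by omega
        nlinarith
      rw [e]
      nlinarith [Nat.mul_le_mul_right (q ^ (n / 2 - 1)) a2]

theorem card_SL_le_PSL (hn : 1 ≤ n) : Nat.card (ConjClasses (Matrix.SpecialLinearGroup (Fin n) F)) ≤
    Nat.gcd n (Fintype.card F - 1) *
      Nat.card (ConjClasses (Matrix.ProjectiveSpecialLinearGroup (Fin n) F)) := by
  have : Nonempty (Fin n) := ⟨⟨0, by omega⟩⟩
  set Z := Subgroup.center (Matrix.SpecialLinearGroup (Fin n) F)
  have := Fintype.ofFinite Z
  have h1 := card_mul_card_quot Z le_rfl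
  rw [H10.card_center_SL, Fintype.card_fin, Nat.card_eq_fintype_card (α := F)] at h1
  refine le_trans ?_ h1.ge
  refine le_trans (le_of_eq ?_) (single_le_sum (fun _ _ => Nat.zero_le _) (mem_univ 1))
  refine (Nat.card_congr (Equiv.subtypeUnivEquiv fun C => ?_)).symm
  obtain ⟨g, rfl⟩ := ConjClasses.mk_surjective C
  exact ⟨g, rfl, by rw [OneMemClass.coe_one, one_mul]; exact IsConj.refl _⟩

theorem lt_card_SL (hn : 2 ≤ n) :
    Fintype.card F ^ (n - 1) < Nat.card (ConjClasses (Matrix.SpecialLinearGroup (Fin n) F)) := by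
  obtain ⟨p, hp⟩ := CharP.exists F
  have := Fact.mk (CharP.char_is_prime F p)
  rw [← Cfsg.Agent.S2384.result rfl p n (by omega)]
  obtain ⟨m, rfl⟩ : ∃ m, n = m + 1 := ⟨n - 1, by omega⟩
  let r : H63.St.PA m := ⟨(0, Fin.last _), by simp [Fin.ext_iff]; omega⟩
  refine Finite.card_subtype_lt (x := ConjClasses.mk ((TA.sl m F).x r 1)) ?_
  rintro ⟨g, h1, h2⟩
  obtain ⟨c, hc⟩ := isConj_iff.mp (ConjClasses.mk_eq_mk_iff_isConj.mp h1)
  have h0 : ∀ k : ℕ, (TA.sl m F).x r 1 ^ k = (TA.sl m F).x r k := fun k => by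
    induction k with
    | zero => simp [H38.PreElts.x_zero]
    | succ k ih => rw [pow_succ, ih, H38.PreElts.x_add, Nat.cast_succ]
  have h3 : orderOf ((TA.sl m F).x r 1) = p := orderOf_eq_prime (by
    rw [h0]; simp [H38.PreElts.x_zero])
    fun e => one_ne_zero (TA.faith.x_eq_one _ _ e)
  rw [← hc, ← MulAut.conj_apply, MulEquiv.orderOf_eq] at h3
  rw [h3, Nat.coprime_self] at h2
  exact this.out.one_lt.ne' h2

end H64.CN
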